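import Groth.Agent.AlgSpDM.RelFibreApps
import Groth.Agent.AlgSpPts.Sep
import Groth.Agent.AlgSpLib.EtaleSmoothLocal
import Groth.Agent.AlgSpLib.CartierRegular

/-!
# Points of fibre products over monomorphic points
-/

set_option autoImplicit false
set_option backward.isDefEq.respectTransparency false
set_option backward.isDefEq.respectTransparency.types false

universe u

open CategoryTheory CategoryTheory.Limits AlgebraicGeometry AlgSp Groth.Agent.AlgSpLib
  Groth.Agent.AlgSpPts Groth.Agent.AlgSpDec

namespace Groth.Agent.MonoFib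

variable {S : Scheme.{u}} {X Y Z W : Sp S}

theorem ofScheme_closedPoint (p : FieldPt X) (z : Points ((yon S).obj p.pt)) :
    z = Points.ofScheme p.pt (IsLocalRing.closedPoint p.K) := by
  obtain ⟨w, rfl⟩ := (Points.schemeHomeo p.pt).surjective z
  have := AlgSpDM.subsingleton_pt p
  exact congrArg _ (Subsingleton.elim _ _)

theorem map_toHom_eq_mk (p : FieldPt X) (z : Points ((yon S).obj p.pt)) :
    Points.map p.toHom z = Points.mk p := by
  rw [ofScheme_closedPoint p z, ← Points.ofPt_eq_map_ofScheme, ← mk_eq_ofPt]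

/-- A field-valued point over a monomorphic point factors through it. -/
theorem exists_factor_mono (hY : IsAlgSpace Y) {r : FieldPt Y} [Mono r.toHom] (q : FieldPt X) (f : X ⟶ Y)
    (h : Points.map f (Points.mk q) = Points.mk r) :
    ∃ c : q.pt ⟶ r.pt, (yon S).map c ≫ r.toHom = q.toHom ≫ f := by
  obtain ⟨z, -, -⟩ := exists_point_of_isPullback (IsPullback.of_hasPullback r.toHom (q.toHom ≫ f))
    (x := Points.ofScheme r.pt (IsLocalRing.closedPoint r.K))
    (y := Points.ofScheme q.pt (IsLocalRing.closedPoint q.K))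
    (by rw [Points.map_comp, map_toHom_eq_mk, map_toHom_eq_mk, h])
  have := isIso_of_mono_field (isAlgSpace_pullback (IsAlgSpace.yon_obj _) (IsAlgSpace.yon_obj _) hY r.toHom
    (q.toHom ≫ f)) (pullback.snd r.toHom (q.toHom ≫ f)) z
  obtain ⟨c, hc⟩ := (yon S).map_surjective
    (inv (pullback.snd r.toHom (q.toHom ≫ f)) ≫ pullback.fst r.toHom (q.toHom ≫ f))
  exact ⟨c, by rw [hc, Category.assoc, pullback.condition, IsIso.inv_hom_id_assoc]⟩

/-- Points of a fibre product over a pair of points, over a monomorphic point of the base: finitely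
many when one of the two points is quasi-finite over the monomorphic one. -/
theorem finite_points_over {f : X ⟶ Y} {g : Z ⟶ Y} {p : W ⟶ X} {q : W ⟶ Z} (hW : IsPullback p q f g)
    (s : FieldPt X) (t : FieldPt Z) (r : FieldPt Y) [Mono r.toHom]
    (d : s.pt ⟶ r.pt) (hd : (yon S).map d ≫ r.toHom = s.toHom ≫ f)
    (c : t.pt ⟶ r.pt) (hc : (yon S).map c ≫ r.toHom = t.toHom ≫ g) [LocallyQuasiFinite c.left] :
    {w : Points W | Points.map p w = Points.mk s ∧ Points.map q w = Points.mk t}.Finite := by
  let W₁ := pullback s.toHom p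
  have h₁ : IsPullback (pullback.fst s.toHom p) (pullback.snd s.toHom p ≫ q) (s.toHom ≫ f) g :=
    (IsPullback.of_hasPullback s.toHom p).paste_vert hW
  let W₂ := pullback (pullback.snd s.toHom p ≫ q) t.toHom
  have h₂ : IsPullback (pullback.fst (pullback.snd s.toHom p ≫ q) t.toHom ≫ pullback.fst s.toHom p)
      (pullback.snd (pullback.snd s.toHom p ≫ q) t.toHom) (s.toHom ≫ f) (t.toHom ≫ g) :=
    ((IsPullback.of_hasPullback (pullback.snd s.toHom p ≫ q) t.toHom).flip.paste_vert h₁.flip).flip
  have h₃ : IsPullback (pullback.fst (pullback.snd s.toHom p ≫ q) t.toHom ≫ pullback.fst s.toHom p)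
      (pullback.snd (pullback.snd s.toHom p ≫ q) t.toHom) ((yon S).map d) ((yon S).map c) := by
    refine IsPullback.of_isLimit' ⟨(cancel_mono r.toHom).1 ?_⟩ ?_
    · simp only [Category.assoc, hd, hc]
      simpa [Category.assoc] using h₂.w
    · exact PullbackCone.IsLimit.mk _ (fun K => h₂.lift K.fst K.snd (by
          rw [← hd, ← hc, ← Category.assoc, ← Category.assoc, K.condition]))
        (fun K => h₂.lift_fst _ _ _) (fun K => h₂.lift_snd _ _ _)
        fun K m h1 h2 => h₂.hom_ext (h1.trans (h₂.lift_fst _ _ _).symm) (h2.trans (h₂.lift_snd _ _ _).symm)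
  let e := h₃.isoIsPullback _ _ ((IsPullback.of_hasPullback d c).map (yon S))
  have sql : IsPullback (pullback.fst d c).left (pullback.snd d c).left d.left c.left :=
    (IsPullback.of_hasPullback d c).map (Over.forget S)
  have := AlgSpDM.subsingleton_pt s
  have := AlgSpDM.subsingleton_pt t
  have hfin : Finite (Points W₂) := by
    have h4 : (Set.univ : Set ↥(pullback d c).left).Finite :=
      (AlgSpDM.finite_pullback_points sql (IsLocalRing.closedPoint s.K)
        (IsLocalRing.closedPoint t.K)).subset fun z _ => ⟨Subsingleton.elim _ _, Subsingleton.elim _ _⟩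
    have : Finite ↥(pullback d c).left := Set.finite_univ_iff.1 h4
    refine Finite.of_surjective (fun z => Points.map e.inv (Points.ofScheme (pullback d c) z)) fun w => ?_
    obtain ⟨z, hz⟩ := (Points.schemeHomeo (pullback d c)).surjective (Points.map e.hom w)
    refine ⟨z, ?_⟩
    change Points.map e.inv (Points.schemeHomeo (pullback d c) z) = w
    rw [hz, ← Points.map_comp, e.hom_inv_id, Points.map_id]
  refine (Set.finite_range (fun z : Points W₂ =>
    Points.map (pullback.fst (pullback.snd s.toHom p ≫ q) t.toHom ≫ pullback.snd s.toHom p) z)).subset ?_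
  rintro w ⟨hwp, hwq⟩
  obtain ⟨w₁, -, h1⟩ := exists_point_of_isPullback (IsPullback.of_hasPullback s.toHom p)
    (x := Points.ofScheme s.pt (IsLocalRing.closedPoint s.K)) (y := w)
    (by rw [map_toHom_eq_mk, hwp])
  obtain ⟨w₂, h2, -⟩ := exists_point_of_isPullback (IsPullback.of_hasPullback (pullback.snd s.toHom p ≫ q) t.toHom)
    (x := w₁) (y := Points.ofScheme t.pt (IsLocalRing.closedPoint t.K))
    (by rw [Points.map_comp, h1, hwq, map_toHom_eq_mk])
  exact ⟨w₂, show Points.map (_ ≫ _) w₂ = w by rw [Points.map_comp, h2, h1]⟩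

/-- Comparison with the monomorphic point for a chart point quasi-finite over the base. -/
theorem lqf_factor {U V : Over S} {a : (yon S).obj U ⟶ Z} {b : (yon S).obj V ⟶ Y} (hb : RepWith @Etale b)
    {g : Z ⟶ Y} {h : U ⟶ V} (w : a ≫ g = (yon S).map h ≫ b) {u : ↥U.left}
    (hu : LocallyQuasiFinite (U.left.fromSpecResidueField u ≫ h.left))
    {r : FieldPt Y} (c : (FieldPt.ofPt a u).pt ⟶ r.pt)
    (hc : (yon S).map c ≫ r.toHom = (FieldPt.ofPt a u).toHom ≫ g) [Mono r.toHom] :
    LocallyQuasiFinite c.left := by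
  let ψ : (FieldPt.ofPt a u).pt ⟶ U := Over.homMk (U.left.fromSpecResidueField u) rfl
  have hq : (FieldPt.ofPt a u).toHom = (yon S).map ψ ≫ a := FieldPt.toHom_ofPt a u
  let T := hb.rep.pullback r.toHom
  let vV : T ⟶ V := hb.rep.fst' r.toHom
  let vk : T ⟶ r.pt := hb.rep.snd r.toHom
  have sqT : IsPullback ((yon S).map vV) ((yon S).map vk) b r.toHom := hb.rep.isPullback' r.toHom
  obtain ⟨e, he⟩ := (yon S).map_surjective (sqT.lift ((yon S).map (ψ ≫ h)) ((yon S).map c)
    (by rw [hc, hq, Category.assoc, w, Functor.map_comp, Category.assoc]))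
  have he1 : e ≫ vV = ψ ≫ h := (yon S).map_injective (by rw [Functor.map_comp, he, sqT.lift_fst])
  have he2 : e ≫ vk = c := (yon S).map_injective (by rw [Functor.map_comp, he, sqT.lift_snd])
  have : LocallyQuasiFinite (e.left ≫ vV.left) := by
    rw [← Over.comp_left, he1]; exact hu
  have : LocallyQuasiFinite e.left := LocallyQuasiFinite.of_comp e.left vV.left
  have : Etale vk.left := hb.property_snd r.toHom
  rw [← he2, Over.comp_left]
  infer_instance

/-- Points of a fibre product over `x` and `z` when `z` is quasi-finite over a monomorphic point. -/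
theorem finite_points_over_of_chart (hY : IsAlgSpace Y) {f : X ⟶ Y} {g : Z ⟶ Y} {p : W ⟶ X} {q : W ⟶ Z}
    (hW : IsPullback p q f g) {U V : Over S} {a : (yon S).obj U ⟶ Z} {b : (yon S).obj V ⟶ Y}
    (hb : RepWith @Etale b) {h : U ⟶ V} (w : a ≫ g = (yon S).map h ≫ b) {u : ↥U.left}
    (hu : LocallyQuasiFinite (U.left.fromSpecResidueField u ≫ h.left))
    (r : FieldPt Y) [Mono r.toHom] (hr : Points.map g (Points.ofPt a u) = Points.mk r)
    (x : Points X) (hx : Points.map f x = Points.mk r) :
    {v : Points W | Points.map p v = x ∧ Points.map q v = Points.ofPt a u}.Finite := by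
  obtain ⟨s, rfl⟩ := Points.mk_surjective x
  obtain ⟨d, hd⟩ := exists_factor_mono hY s f hx
  obtain ⟨c, hc⟩ := exists_factor_mono hY (r := r) (FieldPt.ofPt a u) g hr
  have := lqf_factor hb w hu c hc
  exact finite_points_over hW s (FieldPt.ofPt a u) r d hd c hc

/-- If each point of `X` is monomorphic, so is each point in the image of a quasi-compact etale morphism. -/
theorem exists_mono_of_etale_qc (hX : IsAlgSpace X) (hY : IsAlgSpace Y) (f : X ⟶ Y)
    (hq : IsQuasiCompactMor f) (he : IsEtaleMor f)
    (hm : ∀ x : Points X, ∃ p : FieldPt X, Points.mk p = x ∧ Mono p.toHom) (x : Points X) :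
    ∃ r : FieldPt Y, Points.mk r = Points.map f x ∧ Mono r.toHom := by
  obtain ⟨U, a, u, hU, ha, rfl⟩ := exists_affine_chart_at hX x
  let φ := a ≫ f
  have hφ : RepWith @Etale φ := he a ha
  rw [Points.map_ofPt]
  refine AlgSpDM.exists_mono_of_finite_relation hY hφ (u := u) (u' := u) rfl fun R s t sq => ?_
  let W₁ := pullback f φ
  let π₂ : W₁ ⟶ (yon S).obj U := pullback.snd f φ
  have sq₁ : IsPullback (pullback.fst f φ) π₂ f φ := IsPullback.of_hasPullback f φ
  have hW₁ : IsAlgSpace W₁ := isAlgSpace_pullback hX (IsAlgSpace.yon_obj _) hY f φ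
  -- finitely many points of `W₁` over `u`
  have hA : {z : Points W₁ | Points.map π₂ z = Points.ofScheme U u}.Finite := by
    have hqc : IsQuasiCompactSp W₁ :=
      hq (IsAlgSpace.yon_obj U) (isQuasiCompactSp_yon U) φ _ _ sq₁
    obtain ⟨C, θ, hC, hθ, hθs⟩ := CartierRegular.exists_affine_atlas hW₁ hqc
    have hee := isEtaleMor_of_isPullback sq₁ hX hY (IsAlgSpace.yon_obj _) he θ hθ
    obtain ⟨k, hk⟩ := (yon S).map_surjective (θ ≫ π₂)
    have : Etale k.left := (repWith_yon_map_iff _ k).1 (by rw [hk]; exact hee)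
    have : QuasiCompact k.left := inferInstance
    refine ((k.left.finite_preimage_singleton u).image (Points.ofPt θ)).subset fun z hz => ?_
    obtain ⟨v, rfl⟩ := surjective_ofPt hθs z
    refine ⟨v, ?_, rfl⟩
    have h1 : Points.ofScheme U (k.left v) = Points.ofScheme U u := by
      rw [← hz, Points.map_ofPt, ← hk]
      exact (ofPt_comp k (𝟙 _) v).symm.trans (congrArg (Points.ofPt · v) (Category.comp_id _))
    simpa using congrArg (Points.toScheme U) h1
  obtain ⟨m, hm₁, hm₂⟩ : ∃ m : (yon S).obj R ⟶ W₁,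
      m ≫ pullback.fst f φ = (yon S).map t ≫ a ∧ m ≫ π₂ = (yon S).map s :=
    ⟨pullback.lift ((yon S).map t ≫ a) ((yon S).map s) (by rw [Category.assoc]; exact sq.w),
      pullback.lift_fst _ _ _, pullback.lift_snd _ _ _⟩
  have sq₂ : IsPullback m ((yon S).map t) (pullback.fst f φ) a := by
    refine IsPullback.of_right ?_ hm₁ sq₁.flip
    rw [hm₂]
    exact sq.flip
  have hfin : {r : Points ((yon S).obj R) | Points.map π₂ (Points.map m r) = Points.ofScheme U u ∧
      Points.map ((yon S).map t) r = Points.ofScheme U u}.Finite := by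
    obtain ⟨p, hp, _⟩ := hm (Points.ofPt a u)
    refine (hA.biUnion fun z _ => show {r | Points.map m r = z ∧
      Points.map ((yon S).map t) r = Points.ofScheme U u ∧
      Points.map (pullback.fst f φ) z = Points.mk p}.Finite from ?_).subset fun r ⟨h1, h2⟩ => ?_
    · by_cases hz : Points.map (pullback.fst f φ) z = Points.mk p
      · refine (finite_points_over_of_chart hX sq₂ (a := 𝟙 _) ha (h := 𝟙 U) (u := u) (by simp) ?_ p ?_ z hz).subset
          fun r hr => ⟨hr.1, hr.2.1⟩
        · rw [Over.id_left, Category.comp_id]; infer_instance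
        · rw [Points.map_ofPt, Category.id_comp, hp]
      · exact Set.finite_empty.subset fun r hr => hz hr.2.2
    · refine Set.mem_biUnion (x := Points.map m r) h1 ⟨rfl, h2, ?_⟩
      rw [← Points.map_comp, hm₁, Points.map_comp, h2, ← Points.ofPt_eq_map_ofScheme, hp]
  refine (hfin.preimage (f := Points.ofScheme R) ((Points.schemeHomeo R).injective.injOn)).subset ?_
  rintro r₀ ⟨hrs, hrt⟩
  refine ⟨?_, ?_⟩
  · rw [← Points.map_comp, hm₂, Points.map_ofPt, ← hrs]
    exact (congrArg (Points.ofPt · r₀) (Category.comp_id _).symm).trans ((congrArg (Points.ofPt · r₀) (Category.id_comp _)).trans (ofPt_comp s (𝟙 _) r₀))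
  · rw [Points.map_ofPt, ← hrt]
    exact (congrArg (Points.ofPt · r₀) (Category.comp_id _).symm).trans ((congrArg (Points.ofPt · r₀) (Category.id_comp _)).trans (ofPt_comp t (𝟙 _) r₀))

end Groth.Agent.MonoFib
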